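import Cfsg.Agent.H7.SubInst

/-!
Subfield subgroups of the special linear group in dimension at least four.
-/

set_option autoImplicit false
set_option linter.unusedSectionVars false

namespace Cfsg.Agent.H1.SL4

open Module Cfsg.Agent.H7 Cfsg.Agent.H7.RatStr

variable {F : Type*} [Field F] {V : Type*} [AddCommGroup V] [Module F V]
variable {F₀ : Subfield F} {R : RatStr F₀ V} [Finite F] [FiniteDimensional F V]

theorem mem_of_rank' {w x : V} (hw : R.τ w = w) (hn : 4 ≤ finrank F V) {ν : F}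
    (h : ∀ z, R.τ z = z → ∃ δ ∈ (F ∙ w) ⊔ F ∙ x,
      R.τ (ν • (z + δ)) - ν • (z + δ) ∈ (F ∙ w) ⊔ F ∙ x) : ν ∈ F₀ := by
  by_contra hν
  rw [← R.θ_iff, ← sub_eq_zero] at hν
  have h3 : (⊤ : Submodule F V) ≤ ((F ∙ w) ⊔ F ∙ x) ⊔ F ∙ R.τ x := by
    refine (inv_top (R := R)).le fun z _ hz' => ?_
    obtain ⟨δ, hδ, h3⟩ := h z hz'
    rw [← Submodule.smul_mem_iff _ hν]
    have : (R.θ ν - ν) • z = (R.τ (ν • (z + δ)) - ν • (z + δ) + ν • δ) + -(R.θ ν • R.τ δ) := by
      rw [τ_smul, map_add, hz']; module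
    rw [this]
    refine Submodule.add_mem _ (Submodule.mem_sup_left (Submodule.add_mem _ h3
      (Submodule.smul_mem _ _ hδ))) (Submodule.neg_mem _ (Submodule.smul_mem _ _ ?_))
    obtain ⟨y, hy, t, rfl⟩ := mem_sup_span_singleton.1 hδ
    rw [map_add, τ_smul]
    exact Submodule.add_mem_sup (Submodule.mem_sup_left (inv_span' hw y hy))
      (Submodule.smul_mem _ _ (Submodule.mem_span_singleton_self _))
  have := Submodule.finrank_mono h3
  have := finrank_sup_span_le ((F ∙ w) ⊔ F ∙ x) (R.τ x)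
  have := finrank_span_pair_le (F := F) w x
  rw [finrank_top] at *
  omega

section

variable {X : Subgroup (V ≃ₗ[F] V)}
  (hX : ∀ (φ : Dual F V) (v : V), R.RF φ → R.τ v = v → φ v = 0 → TV X φ v)
include hX

theorem le_N_of_rf4 (hn : 4 ≤ finrank F V)
    (hL : ∀ (χ : Dual F V) (w : V), R.τ w = w → w ≠ 0 → χ w = 0 → TV X χ w → R.RF χ) :
    X ≤ R.N := by
  intro g hg
  have CL : ∀ w₀ w, R.τ w₀ = w₀ → w₀ ≠ 0 → R.τ w = w → w ≠ 0 → g w₀ ∉ F ∙ w →
      R.τ (g w₀) ∈ (F ∙ w) ⊔ F ∙ g w₀ := by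
    intro w₀ w hw₀ h00 hw h0 hx
    set x := g w₀ with hxdef
    set L := (F ∙ w) ⊔ F ∙ x with hLdef
    have hwL : w ∈ L := Submodule.mem_sup_left (Submodule.mem_span_singleton_self w)
    have hxL : x ∈ L := Submodule.mem_sup_right (Submodule.mem_span_singleton_self x)
    let Y : Subgroup (V ≃ₗ[F] V) :=
      { carrier := {y | y ∈ X ∧ ∀ v, y v - v ∈ L}
        one_mem' := ⟨X.one_mem, by simp⟩
        mul_mem' := fun {a b} ha hb => ⟨X.mul_mem ha.1 hb.1, fun v => by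
          simpa using L.add_mem (ha.2 (b v)) (hb.2 v)⟩
        inv_mem' := fun {a} ha => ⟨X.inv_mem ha.1, fun v => by
          have := L.neg_mem (ha.2 (a⁻¹ v))
          rwa [show a (a⁻¹ v) = v from a.apply_symm_apply v, neg_sub] at this⟩ }
    have hY : ∀ (φ : Dual F V) (v : V), v ∈ L → TV X φ v → TV Y φ v := by
      rintro φ v hv ⟨t, ht, ht'⟩
      exact ⟨t, ⟨ht, fun y => by simpa [ht'] using L.smul_mem _ hv⟩, ht'⟩
    obtain ⟨ψ₀, h1, h2, h3⟩ := (inv_span' hw₀).exists_rf (v := g.symm w) (fun h => by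
      obtain ⟨a, ha⟩ := Submodule.mem_span_singleton.1 h
      refine notMem_span_swap h0 hx (Submodule.mem_span_singleton.2 ⟨a, ?_⟩)
      rw [hxdef, ← map_smul, ha, g.apply_symm_apply])
    obtain ⟨g₁, hg₁, hg₁'⟩ := hY _ _ hxL ((hX ψ₀ w₀ h1 hw₀
      (h2 w₀ (Submodule.mem_span_singleton_self _))).conj' hg)
    obtain ⟨χ₁, h4, h5, h6⟩ := (inv_span' hw).exists_rf hx
    have key : ∀ χ : Dual F V, R.RF χ → χ w = 0 → χ x / χ₁ x ∈ F₀ := by
      intro χ hχ hχw
      refine div_mem_of_plane F₀ (Y := Y) h0 hx (fun y hy => by simpa using L.add_mem (hy.2 w) hwL)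
        hg₁ ?_ (S := {c | ∃ χ : Dual F V, R.RF χ ∧ χ w = 0 ∧ χ x = c}) ?_ ?_ ?_
        ⟨χ₁, h4, h5 w (Submodule.mem_span_singleton_self _), rfl⟩ h6 ⟨χ, hχ, hχw, rfl⟩
      · rw [hg₁', Submodule.add_mem_iff_right _ (Submodule.mem_span_singleton_self w),
          Submodule.smul_mem_iff _ (by simpa using h3)]
        exact hx
      · rintro _ ⟨χ, h1, h2, rfl⟩
        obtain ⟨s, hs, hs'⟩ := hY _ _ hwL (hX χ w h1 hw h2)
        exact ⟨s, hs, by simp [hs', h2], hs' x⟩
      · rintro a ha _ ⟨χ, h1, h2, rfl⟩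
        exact ⟨a • χ, fun y => by simp [h1 y, R.θ_of_mem ha], by simp [h2], by simp⟩
      · intro h hh μ hμ
        refine mem_of_rank' (R := R) hw hn fun z hz => ⟨h⁻¹ z - z, (Y.inv_mem hh).2 z, ?_⟩
        refine Submodule.mem_sup_left (mem_span_of_rf hw fun χ h1 h2 => ?_)
        have h7 := (hX χ w h1 hw h2).conj' hh.1
        rw [hμ, ← TV.smul_swap] at h7
        have h8 := (hL _ w hw h0 (by
          have : h.symm (μ • w) = w := by rw [← hμ, h.symm_apply_apply]
          rw [map_smul] at this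
          simpa [h2] using congrArg χ this) h7).mem hz
        rw [map_sub, h1, sub_eq_zero, add_sub_cancel, R.θ_iff]
        simpa using h8
    have h7 : R.τ ((χ₁ x)⁻¹ • x) - (χ₁ x)⁻¹ • x ∈ F ∙ w := mem_span_of_rf hw fun χ h1 h2 => by
      rw [map_sub, h1, sub_eq_zero, R.θ_iff]
      simpa [div_eq_inv_mul] using key χ h1 h2
    have h8 := L.add_mem (Submodule.mem_sup_left h7) (L.smul_mem (χ₁ x)⁻¹ hxL)
    rwa [sub_add_cancel, τ_smul, L.smul_mem_iff (by simpa using h6)] at h8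
  refine (exists_const (F := F) (f := R.τ.comp (g : V →+ V)) (g := (g : V →+ V))
    (fun a x => map_smul g a x) g.injective (G := fun x => R.τ x = x) ?_ ?_).elim
    fun c hc => mem_N_of hc
  · intro w₀ hw₀
    show R.τ (g w₀) ∈ F ∙ g w₀
    by_cases h00 : w₀ = 0
    · simp [h00]
    have hx0 : g w₀ ≠ 0 := by simpa using h00
    obtain ⟨w, -, hw, hw'⟩ := (inv_top (R := R)).exists_notMem_of_lt (N := F ∙ g w₀) (by
      have := finrank_span_singleton_le (F := F) (g w₀)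
      rw [finrank_top]; omega)
    obtain ⟨w', -, h1, h2⟩ := (inv_top (R := R)).exists_notMem_of_lt (N := (F ∙ w) ⊔ F ∙ g w₀) (by
      have := finrank_span_pair_le (F := F) w (g w₀)
      rw [finrank_top]; omega)
    exact mem_span_of_two
      (CL w₀ w hw₀ h00 hw (by rintro rfl; simp at hw') (notMem_span_swap hx0 hw'))
      (CL w₀ w' hw₀ h00 h1 (by rintro rfl; simp at h2)
        (notMem_span_swap hx0 fun h => h2 (Submodule.mem_sup_right h))) h2
  · intro x y hx hy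
    obtain ⟨z, -, h1, h2⟩ := (inv_top (R := R)).exists_notMem_of_lt (N := (F ∙ x) ⊔ F ∙ y) (by
      have := finrank_span_pair_le (F := F) x y
      rw [finrank_top]; omega)
    exact ⟨z, h1, by simp [hx, h1], by simp [hy, h1], h2⟩

end

theorem N_maximal_SLV4 (hn : 4 ≤ finrank F V) (hne : ∃ ξ, ξ ∉ F₀)
    (hsimple : ∀ S : Subring F, (∀ a ∈ F₀, a ∈ S) → (∃ ξ ∈ S, ξ ∉ F₀) → S = ⊤) :
    Geo.IsMaximalIn (SLV F V) (R.N ⊓ SLV F V) := by
  refine isMaximalIn_of inf_le_right ?_ fun X hHX hXE g hg hgH => ?_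
  · obtain ⟨ξ, hξ⟩ := hne
    obtain ⟨v, -, hv, hv0⟩ := (inv_top (R := R)).exists_notMem_of_lt (N := ⊥) (by
      rw [finrank_top, finrank_bot]; omega)
    obtain ⟨y, -, hy, hy'⟩ := (inv_top (R := R)).exists_notMem_of_lt (N := F ∙ v) (by
      have := finrank_span_singleton_le (F := F) v
      rw [finrank_top]; omega)
    obtain ⟨φ, hφ, h1, h2⟩ := (inv_span' hv).exists_rf hy'
    have h3 : φ v = 0 := h1 v (Submodule.mem_span_singleton_self v)
    refine ⟨_, transvection_mem_SLV (φ := φ) (v := ξ • v) (by simp [h3]), fun ⟨⟨c, hc⟩, _⟩ => ?_⟩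
    have h4 := hc v
    have h5 := hc y
    simp only [LinearEquiv.transvection.apply, h3, zero_smul, add_zero, hv] at h4
    have h6 : (c : F) = 1 := smul_left_injective F (by simpa using hv0) (by simpa using h4.symm)
    simp only [LinearEquiv.transvection.apply, map_add, τ_smul, hy, hv, h6, one_smul,
      R.θ_of_mem (hφ.mem hy), add_right_inj] at h5
    exact hξ ((R.θ_iff ξ).1 (smul_left_injective F (by simpa using hv0)
      (smul_right_injective V h2 h5)))
  have hX : ∀ (φ : Dual F V) (v : V), R.RF φ → R.τ v = v → φ v = 0 → TV X φ v :=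
    fun φ v h1 h2 h3 => (tv_N h1 h2 h3).has.mono hHX
  by_contra hcon
  refine hgH ⟨le_N_of_rf4 hX hn (fun χ w h1 h2 h3 h4 => ?_) hg, hXE hg⟩
  by_contra h5
  exact hcon (SLV_le_of_not_rf hX (by omega) hsimple h1 h2 h3 h4 h5)


theorem subfield {F : Type*} [Field F] [Fintype F] {n : ℕ} (hn : 4 ≤ n) (F₀ : Subfield F) (r : ℕ)
    (P : GL (Fin n) F) (hr : r.Prime) (hcard : Fintype.card F = Nat.card F₀ ^ r) :
    Geo.IsMaximalIn (Geo.specialLinear (Fin n) F)
      (Geo.subfieldSubgroup F₀ P ⊓ Geo.specialLinear (Fin n) F) := by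
  have : Nonempty (Fin n) := ⟨⟨0, by omega⟩⟩
  refine isMaximalIn_of_equiv toLE mem_specialLinear_iff (fun g => ?_)
    (N_maximal_SLV4 (R := stdRat F₀ P) (by simp; omega)
      (exists_notMem_subfield hr hcard) (subring_eq_top hr hcard))
  rw [Subgroup.mem_inf, mem_specialLinear_iff, mem_subfieldSubgroup_iff_N, Subgroup.mem_inf]

end Cfsg.Agent.H1.SL4
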